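import Cfsg.Agent.H605.Aff.KOneC
import Cfsg.Agent.H605.Aff.K23

/-!
# Maximality of the affine groups
-/

set_option autoImplicit false

namespace Cfsg.Agent.H605.Aff

open Equiv

variable {p k : ℕ} [Fact p.Prime]

/-- **the overgroups of the even part of the affine group** -/
theorem main_all (hG : IndexPP) {H : Subgroup (Perm (V p k))} (hk : 1 ≤ k) (h5 : 5 ≤ p ^ k) (hB : Big H) :
    H ≤ AGL p k ∨ alternatingGroup (V p k) ≤ H ∨
      ((p ^ k = 7 ∨ p ^ k = 11 ∨ p ^ k = 17 ∨ p ^ k = 23) ∧ ¬ AGL p k ≤ H) := by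
  have hpp : p.Prime := Fact.out
  have hp2 := hpp.two_le
  rcases Nat.lt_or_ge k 2 with h1 | h1
  · have : k = 1 := by omega
    subst this
    simp only [pow_one] at h5 ⊢
    exact main_one hG h5 hB
  · by_cases h3 : 3 ≤ k ∨ 5 ≤ p
    · rcases main_two hG h1 h3 hB with h | h
      · exact Or.inl h
      · exact Or.inr (Or.inl h)
    · have hk2 : k = 2 := by omega
      have hp5 : p < 5 := by omega
      subst hk2
      have hp3 : p = 3 := by
        have : p = 2 ∨ p = 3 ∨ p = 4 := by omega
        rcases this with rfl | rfl | rfl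
        · norm_num at h5
        · rfl
        · norm_num at hpp
      subst hp3
      rcases main_nine hG hB with h | h
      · exact Or.inl h
      · exact Or.inr (Or.inl h)

theorem exists_notMem {s : Finset (V p k)} (h : s.card < p ^ k) : ∃ y, y ∉ s := by
  by_contra hcon
  push Not at hcon
  have h1 : s = Finset.univ := Finset.eq_univ_iff_forall.2 hcon
  rw [h1, Finset.card_univ, ← Nat.card_eq_fintype_card, card_V] at h
  exact lt_irrefl _ h

theorem not_le_of {u v : V p k} (hu : u ≠ 0) (hv : v ≠ 0) (huv : u + v ≠ 0)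
    (hc : ({0, u, v, u + v} : Finset (V p k)).card + 2 ≤ p ^ k) : ¬ alternatingGroup (V p k) ≤ AGL p k := by
  intro hle
  obtain ⟨y, hy⟩ := exists_notMem (p := p) (k := k) (s := {0, u, v, u + v}) (by omega)
  obtain ⟨z, hz⟩ := exists_notMem (p := p) (k := k) (s := insert y {0, u, v, u + v}) (by
    rw [Finset.card_insert_of_notMem hy]
    omega)
  simp only [Finset.mem_insert, Finset.mem_singleton, not_or] at hy hz
  obtain ⟨hy0, hyu, hyv, hyw⟩ : y ≠ 0 ∧ y ≠ u ∧ y ≠ v ∧ y ≠ u + v := hy
  obtain ⟨hzy, hz0, hzu, hzv, hzw⟩ : z ≠ y ∧ z ≠ 0 ∧ z ≠ u ∧ z ≠ v ∧ z ≠ u + v := hz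
  have hwu : u + v ≠ u := fun h => hv (by simpa using h)
  have hwv : u + v ≠ v := fun h => hu (by simpa using h)
  have hσ : swap (u + v) y * swap y z ∈ alternatingGroup (V p k) := by
    rw [Perm.mem_alternatingGroup, map_mul, Perm.sign_swap hyw.symm, Perm.sign_swap hzy.symm]
    rfl
  obtain ⟨A, b, h⟩ := hle hσ
  have h0 : b = 0 := by
    have h1 := h 0
    rw [map_zero A, zero_add, Perm.mul_apply, swap_apply_of_ne_of_ne hy0.symm hz0.symm,
      swap_apply_of_ne_of_ne huv.symm hy0.symm] at h1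
    exact h1.symm
  subst h0
  have h1 := h u
  rw [add_zero, Perm.mul_apply, swap_apply_of_ne_of_ne hyu.symm hzu.symm,
    swap_apply_of_ne_of_ne hwu.symm hyu.symm] at h1
  have h2 := h v
  rw [add_zero, Perm.mul_apply, swap_apply_of_ne_of_ne hyv.symm hzv.symm,
    swap_apply_of_ne_of_ne hwv.symm hyv.symm] at h2
  have h3 := h (u + v)
  rw [add_zero, map_add A, ← h1, ← h2, Perm.mul_apply, swap_apply_of_ne_of_ne hyw.symm hzw.symm,
    swap_apply_left] at h3
  exact hyw h3

theorem not_le (h5 : 5 ≤ p ^ k) : ¬ alternatingGroup (V p k) ≤ AGL p k := by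
  have hpp : p.Prime := Fact.out
  obtain ⟨u, hu⟩ := exists_notMem (p := p) (k := k) (s := {0}) (by rw [Finset.card_singleton]; omega)
  rw [Finset.mem_singleton] at hu
  by_cases hp2 : p = 2
  · subst hp2
    obtain ⟨v, hv⟩ := exists_notMem (p := 2) (k := k) (s := {0, u}) (by
      have := Finset.card_le_two (a := (0 : V 2 k)) (b := u)
      omega)
    simp only [Finset.mem_insert, Finset.mem_singleton, not_or] at hv
    refine not_le_of hu hv.1 ?_ ?_
    · intro h
      apply hv.2
      have h1 : v = -u := by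
        rw [eq_neg_iff_add_eq_zero, add_comm]
        exact h
      rw [h1]
      ext i
      simp [ZMod.neg_eq_self_mod_two]
    · have h1 := Finset.card_le_four (a := (0 : V 2 k)) (b := u) (c := v) (d := u + v)
      have h2 : 8 ≤ 2 ^ k := by
        have : 3 ≤ k := by
          by_contra hcon
          have h3 : 2 ^ k ≤ 2 ^ 2 := Nat.pow_le_pow_right (by norm_num) (by omega)
          omega
        calc 8 = 2 ^ 3 := by norm_num
          _ ≤ 2 ^ k := Nat.pow_le_pow_right (by norm_num) this
      omega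
  · refine not_le_of hu hu ?_ ?_
    · intro h
      rw [← two_smul (ZMod p) u] at h
      rcases smul_eq_zero.1 h with h1 | h1
      · apply hp2
        have h2 : ((2 : ℕ) : ZMod p) = 0 := by exact_mod_cast h1
        rw [ZMod.natCast_eq_zero_iff] at h2
        exact (Nat.prime_dvd_prime_iff_eq hpp Nat.prime_two).1 h2
      · exact hu h1
    · have h1 : ({0, u, u, u + u} : Finset (V p k)) = {0, u, u + u} := by
        ext x
        simp
      have h2 := Finset.card_le_three (a := (0 : V p k)) (b := u) (c := u + u)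
      rw [h1]
      omega

/-- an odd permutation in the affine group -/
theorem exists_odd (hp2 : p ≠ 2) (hk : 1 ≤ k) : ∃ σ ∈ AGL p k, Perm.sign σ = -1 := by
  classical
  have hpp : p.Prime := Fact.out
  have hodd : Odd p := hpp.odd_of_ne_two hp2
  let F := GaloisField p k
  have : Fintype F := Fintype.ofFinite F
  have hfin : Module.finrank (ZMod p) (V p k) = Module.finrank (ZMod p) F := by
    rw [Module.finrank_fin_fun, GaloisField.finrank p (by omega)]
  let e : V p k ≃ₗ[ZMod p] F := LinearEquiv.ofFinrankEq _ _ hfin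
  obtain ⟨ζ, hζ⟩ := IsCyclic.exists_generator (α := Fˣ)
  let B : F ≃ₗ[ZMod p] F := LinearEquiv.ofBijective (LinearMap.mulLeft (ZMod p) (ζ : F)) (by
    constructor
    · intro x y h
      exact mul_left_cancel₀ ζ.ne_zero h
    · intro y
      exact ⟨(ζ⁻¹ : Fˣ) * y, by simp⟩)
  have hB : ∀ x, B x = (ζ : F) * x := fun x => rfl
  have hcardF : Fintype.card F = p ^ k := by
    rw [← Nat.card_eq_fintype_card, GaloisField.card p k (by omega)]
  refine ⟨lin (e.trans (B.trans e.symm)), lin_mem _, ?_⟩
  have h1 : Perm.sign (lin (e.trans (B.trans e.symm))) = Perm.sign B.toEquiv := by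
    have : lin (e.trans (B.trans e.symm)) = (e.toEquiv.trans (B.toEquiv : Perm F)).trans e.toEquiv.symm := by
      ext v : 1
      rfl
    rw [this]
    exact Perm.sign_trans_trans_symm _ _
  rw [h1]
  have hpow : ∀ (n : ℕ) (x : F), (B.toEquiv ^ n : Perm F) x = (ζ : F) ^ n * x := by
    intro n x
    induction n with
    | zero => simp
    | succ n ih =>
      rw [pow_succ', Perm.mul_apply, ih, pow_succ', mul_assoc]
      rfl
  have hk3 : 3 ≤ p ^ k := le_trans (by have := hpp.two_le; omega) (Nat.le_self_pow (by omega) p)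
  have hζ1 : (ζ : F) ≠ 1 := by
    intro h
    have h2 : ζ = 1 := Units.ext h
    have h3 : Fintype.card Fˣ = p ^ k - 1 := by rw [Fintype.card_units, hcardF]
    have h4 : 1 < Fintype.card Fˣ := by omega
    obtain ⟨x, hx⟩ := Fintype.exists_ne_of_one_lt_card h4 1
    have h5 := hζ x
    rw [h2, Subgroup.zpowers_one_eq_bot, Subgroup.mem_bot] at h5
    exact hx h5
  have hmove : ∀ x, B.toEquiv x ≠ x ↔ x ≠ 0 := by
    intro x
    constructor
    · rintro h rfl
      exact h (by change (ζ : F) * 0 = 0; rw [mul_zero])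
    · intro hx h
      have h2 : (ζ : F) * x = x := h
      exact hζ1 (mul_right_cancel₀ hx (by rw [h2, one_mul]))
  have hcyc : Perm.IsCycle (B.toEquiv : Perm F) := by
    refine ⟨1, (hmove 1).2 one_ne_zero, fun y hy => ?_⟩
    have hy0 := (hmove y).1 hy
    obtain ⟨n, hn⟩ := (Submonoid.mem_powers_iff _ _).1 (mem_powers_iff_mem_zpowers.2 (hζ (Units.mk0 y hy0)))
    refine ⟨n, ?_⟩
    rw [zpow_natCast, hpow, mul_one]
    have := congrArg (fun u : Fˣ => (u : F)) hn
    simpa using this
  rw [hcyc.sign]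
  have hsupp : (Perm.support (B.toEquiv : Perm F)) = Finset.univ.erase 0 := by
    ext x
    rw [Perm.mem_support, hmove]
    simp
  rw [hsupp, Finset.card_erase_of_mem (Finset.mem_univ _), Finset.card_univ, hcardF]
  have heven : Even (p ^ k - 1) := by
    have h2 : Odd (p ^ k) := hodd.pow
    obtain ⟨c, hc⟩ := h2
    exact ⟨c, by omega⟩
  rw [heven.neg_one_pow]

theorem eq_top {K : Subgroup (Perm (V p k))} (h : alternatingGroup (V p k) ≤ K) {σ : Perm (V p k)}
    (hσ : σ ∈ K) (hs : Perm.sign σ = -1) : K = ⊤ := by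
  rw [eq_top_iff]
  rintro τ -
  rcases Int.units_eq_one_or (Perm.sign τ) with h1 | h1
  · exact h (Perm.mem_alternatingGroup.2 h1)
  · have h2 : τ * σ ∈ K := h (Perm.mem_alternatingGroup.2 (by rw [map_mul, h1, hs]; rfl))
    have h3 := K.mul_mem h2 (K.inv_mem hσ)
    rwa [mul_inv_cancel_right] at h3

theorem coatom_sym (hG : IndexPP) (hp2 : p ≠ 2) (hk : 1 ≤ k) (h5 : 5 ≤ p ^ k) : IsCoatom (AGL p k) := by
  constructor
  · intro h
    apply not_le h5
    rw [h]
    exact le_top
  · intro K hK
    have hB : Big K := fun σ hσ _ => hK.le hσ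
    rcases main_all hG hk h5 hB with h | h | ⟨-, h⟩
    · exact absurd hK (not_lt_of_ge h)
    · obtain ⟨σ, hσ, hs⟩ := exists_odd (p := p) (k := k) hp2 hk
      exact eq_top h (hK.le hσ) hs
    · exact absurd hK.le h

theorem coatom_alt (hG : IndexPP) (hk : 1 ≤ k) (h5 : 5 ≤ p ^ k) (h7 : p ^ k ≠ 7) (h11 : p ^ k ≠ 11) (h17 : p ^ k ≠ 17)
    (h23 : p ^ k ≠ 23) : IsCoatom ((AGL p k).subgroupOf (alternatingGroup (V p k))) := by
  constructor
  · intro h
    apply not_le h5
    rwa [Subgroup.subgroupOf_eq_top] at h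
  · intro K hK
    have hB : Big (K.map (alternatingGroup (V p k)).subtype) := by
      intro σ hσ hs
      exact ⟨⟨σ, Perm.mem_alternatingGroup.2 hs⟩, hK.le hσ, rfl⟩
    rcases main_all hG hk h5 hB with h | h | ⟨h, -⟩
    · exfalso
      refine not_lt_of_ge (show K ≤ (AGL p k).subgroupOf (alternatingGroup (V p k)) from ?_) hK
      intro x hx
      exact h ⟨x, hx, rfl⟩
    · rw [eq_top_iff]
      rintro x -
      obtain ⟨y, hy, hxy⟩ := h x.2
      have : y = x := Subtype.ext hxy
      rwa [← this]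
    · exfalso
      omega

end Cfsg.Agent.H605.Aff
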