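import Cfsg.Agent.S0243
import Cfsg.Agent.ClassicalGeometry.PSL2Basic
import Cfsg.Agent.H605.Aff.NT

/-!
# `PSL_d(q)` with `(q^d - 1)/(q - 1) = p` prime
-/

set_option autoImplicit false

namespace Cfsg.Agent.H605.Aff.NumOne

/-- `t = |PSL_d(q)|/p` -/
def tt (q n : ℕ) : ℕ := ∏ i ∈ Finset.range n, (q ^ (n + 1) - q ^ (i + 1))

theorem gcd_eq_one {q d p : ℕ} (hp : p.Prime) (hq : 2 ≤ q) (hd : 2 ≤ d) (h : q ^ d - 1 = p * (q - 1)) :
    Nat.gcd d (q - 1) = 1 := by
  by_contra hcon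
  obtain ⟨s, hs, hsd⟩ := Nat.exists_prime_and_dvd hcon
  have h1 : s ∣ d := dvd_trans hsd (Nat.gcd_dvd_left _ _)
  have h2 : s ∣ q - 1 := dvd_trans hsd (Nat.gcd_dvd_right _ _)
  have hsum : ∑ j ∈ Finset.range d, q ^ j = p := by
    apply Nat.eq_of_mul_eq_mul_right (by omega : 0 < q - 1)
    rw [NT.sum_mul q d (by omega), h]
  have hq1 : (q : ZMod s) = 1 := by
    have h3 : ((q - 1 : ℕ) : ZMod s) = 0 := (ZMod.natCast_eq_zero_iff _ _).2 h2
    rw [Nat.cast_sub (by omega), Nat.cast_one] at h3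
    exact sub_eq_zero.1 h3
  have hp0 : (p : ZMod s) = 0 := by
    rw [← hsum]
    push_cast
    rw [hq1]
    simp only [one_pow, Finset.sum_const, Finset.card_range, nsmul_eq_mul, mul_one]
    exact (ZMod.natCast_eq_zero_iff _ _).2 h1
  have h4 : s ∣ p := (ZMod.natCast_eq_zero_iff _ _).1 hp0
  have h5 : s = p := (Nat.prime_dvd_prime_iff_eq hs hp).1 h4
  have h6 := Nat.le_of_dvd (by omega) h1
  have h7 := NT.lt_sum hq hd
  omega

/-- `t ≡ d (mod p)` -/
theorem tt_mod {q n p : ℕ} (hp : p.Prime) (hp2 : p ≠ 2) (hq : 2 ≤ q) (hn : 1 ≤ n)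
    (h : q ^ (n + 1) - 1 = p * (q - 1)) : tt q n ≡ n + 1 [MOD p] := by
  have : Fact p.Prime := ⟨hp⟩
  rw [← ZMod.natCast_eq_natCast_iff]
  have hpow : (q : ZMod p) ^ (n + 1) = 1 := by
    have h1 : ((q ^ (n + 1) - 1 : ℕ) : ZMod p) = 0 := by
      rw [h]
      simp
    rw [Nat.cast_sub (Nat.one_le_pow _ _ (by omega))] at h1
    push_cast at h1
    exact sub_eq_zero.1 h1
  have hprim : IsPrimitiveRoot (q : ZMod p) (n + 1) := by
    rw [IsPrimitiveRoot.iff (by omega)]
    refine ⟨hpow, fun l hl0 hl h1 => ?_⟩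
    rcases NT.main (k := 1) hp one_ne_zero hq (by omega : 2 ≤ n + 1) (by rw [pow_one]; exact h) with ⟨h2, -⟩ | h2
    · exact hp2 h2
    · apply h2 l hl0 hl
      rw [← ZMod.natCast_eq_zero_iff, Nat.cast_sub (Nat.one_le_pow _ _ (by omega))]
      push_cast
      rw [h1, sub_self]
  unfold tt
  rw [Nat.cast_prod]
  have h1 := hprim.prod_one_sub_pow_eq_order
  push_cast
  rw [← h1]
  apply Finset.prod_congr rfl
  intro i hi
  rw [Finset.mem_range] at hi
  rw [Nat.cast_sub (Nat.pow_le_pow_right (by omega) (by omega))]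
  push_cast
  rw [hpow]

/-- the order of `PSL_d(q)` -/
theorem card_PSL {F : Type*} [Field F] [Fintype F] {n : ℕ} (hn : 1 ≤ n) {p : ℕ} (hp : p.Prime)
    (h : Fintype.card F ^ (n + 1) - 1 = p * (Fintype.card F - 1)) :
    Nat.card (Matrix.ProjectiveSpecialLinearGroup (Fin (n + 1)) F) = p * tt (Fintype.card F) n := by
  have hq : 2 ≤ Fintype.card F := Fintype.one_lt_card
  have hord := S0243.result (F := F) (q := Fintype.card F) rfl (n + 1) (by omega)
  rw [gcd_eq_one hp hq (by omega) h, one_mul, Fin.prod_univ_succ] at hord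
  have h2 : Fintype.card F ^ (n + 1) - Fintype.card F ^ ((0 : Fin (n + 1)) : ℕ) = p * (Fintype.card F - 1) := by
    simpa using h
  rw [h2] at hord
  apply Nat.eq_of_mul_eq_mul_left (by omega : 0 < Fintype.card F - 1)
  rw [hord]
  unfold tt
  rw [← Fin.prod_univ_eq_prod_range (fun i => Fintype.card F ^ (n + 1) - Fintype.card F ^ (i + 1))]
  simp only [Fin.val_succ]
  ring

theorem card_PGL {F : Type*} [Field F] [Fintype F] {n : ℕ} (hn : 1 ≤ n) {p : ℕ} (hp : p.Prime)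
    (h : Fintype.card F ^ (n + 1) - 1 = p * (Fintype.card F - 1)) :
    Nat.card (Matrix.ProjGenLinGroup (Fin (n + 1)) F)
      = Nat.card (Matrix.ProjectiveSpecialLinearGroup (Fin (n + 1)) F) := by
  have hq : 2 ≤ Fintype.card F := Fintype.one_lt_card
  have h1 := ClassicalGeometry.PSL2Basic.card_PGL_mul (Fin (n + 1)) F
  have hord := S0243.result (F := F) (q := Fintype.card F) rfl (n + 1) (by omega)
  rw [gcd_eq_one hp hq (by omega) h, one_mul] at hord
  rw [Matrix.card_GL_field, ← hord, mul_comm] at h1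
  exact Nat.eq_of_mul_eq_mul_left (by omega : 0 < Fintype.card F - 1) h1

/-- the arithmetic for `d = 2` -/
theorem arith_two {r f p : ℕ} (hr : r.Prime) (hp : p.Prime) (h5 : 5 ≤ p) (h : (r ^ f) ^ 2 - 1 = p * (r ^ f - 1))
    (hle : p - 1 ≤ 4 * f) : p = 5 ∨ (p = 17 ∧ f = 4) := by
  have hf : 1 ≤ f := by omega
  have hq1 : 2 ≤ r ^ f := le_trans hr.two_le (Nat.le_self_pow (by omega) r)
  have hp1 : p = r ^ f + 1 := by
    obtain ⟨t, ht⟩ : ∃ t, r ^ f = t + 1 := ⟨r ^ f - 1, by omega⟩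
    rw [ht] at h ⊢
    have h1 : (t + 1) ^ 2 - 1 = (t + 2) * t := by
      have : (t + 1) ^ 2 = (t + 2) * t + 1 := by ring
      omega
    rw [h1, Nat.add_sub_cancel] at h
    exact (Nat.eq_of_mul_eq_mul_right (by omega) h).symm
  have hodd : Odd p := hp.odd_of_ne_two (by omega)
  have hr2 : r = 2 := by
    rcases hr.eq_two_or_odd' with h1 | h1
    · exact h1
    · exfalso
      have h2 : Odd (r ^ f) := h1.pow
      rw [hp1] at hodd
      exact (Nat.not_even_iff_odd.2 hodd) (h2.add_one)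
  subst hr2
  have h1 : f ≤ 4 := by
    by_contra hcon
    have h2 : ∀ n, 4 * (n + 5) < 2 ^ (n + 5) := by
      intro n
      induction n with
      | zero => norm_num
      | succ n ih =>
        have : 2 ^ (n + 1 + 5) = 2 * 2 ^ (n + 5) := by ring
        omega
    obtain ⟨n, rfl⟩ : ∃ n, f = n + 5 := ⟨f - 5, by omega⟩
    have := h2 n
    omega
  have hf4 : f = 1 ∨ f = 2 ∨ f = 3 ∨ f = 4 := by omega
  rcases hf4 with rfl | rfl | rfl | rfl
  · omega
  · left; omega
  · exfalso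
    rw [hp1] at hp
    norm_num at hp
  · right; omega

/-- the arithmetic for `d ≥ 3` -/
theorem arith_three {r f p n : ℕ} (hr : r.Prime) (hp : p.Prime) (hf : 1 ≤ f) (hn : 2 ≤ n)
    (h : (r ^ f) ^ (n + 1) - 1 = p * (r ^ f - 1))
    (hle : p - 1 ≤ 4 * f * (n + 1)) : n = 2 ∧ f = 1 ∧ (r = 2 ∨ r = 3) := by
  have hq1 : 2 ≤ r ^ f := le_trans hr.two_le (Nat.le_self_pow (by omega) r)
  have hf2 : 2 * f ≤ r ^ f := by
    have h1 : ∀ n, 2 * (n + 1) ≤ 2 ^ (n + 1) := by
      intro n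
      induction n with
      | zero => norm_num
      | succ n ih =>
        have : 2 ^ (n + 1 + 1) = 2 * 2 ^ (n + 1) := by ring
        omega
    obtain ⟨g, rfl⟩ : ∃ g, f = g + 1 := ⟨f - 1, by omega⟩
    exact le_trans (h1 g) (Nat.pow_le_pow_left hr.two_le _)
  have hsum : ∑ j ∈ Finset.range (n + 1), (r ^ f) ^ j = p := by
    apply Nat.eq_of_mul_eq_mul_right (by omega : 0 < r ^ f - 1)
    rw [NT.sum_mul (r ^ f) (n + 1) (by omega), h]
  set q := r ^ f with hqdef
  -- `q^n + q^(n-1) ≤ p - 1`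
  obtain ⟨m, rfl⟩ : ∃ m, n = m + 2 := ⟨n - 2, by omega⟩
  have h2 : q ^ (m + 2) + q ^ (m + 1) + 1 ≤ p := by
    rw [← hsum, Finset.sum_range_succ, Finset.sum_range_succ, Finset.sum_range_succ']
    simp only [pow_zero]
    omega
  have h3 : q ^ (m + 2) + q ^ (m + 1) ≤ 4 * f * (m + 3) := by
    have : 4 * f * (m + 2 + 1) = 4 * f * (m + 3) := by ring
    omega
  have h4 : q ^ (m + 1) + q ^ m ≤ 2 * (m + 3) := by
    have h5 : q * (q ^ (m + 1) + q ^ m) ≤ q * (2 * (m + 3)) := by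
      calc q * (q ^ (m + 1) + q ^ m) = q ^ (m + 2) + q ^ (m + 1) := by ring
        _ ≤ 4 * f * (m + 3) := h3
        _ = (2 * f) * (2 * (m + 3)) := by ring
        _ ≤ q * (2 * (m + 3)) := Nat.mul_le_mul_right _ hf2
    exact Nat.le_of_mul_le_mul_left h5 (by omega)
  have hm : m ≤ 1 := by
    by_contra hcon
    have h6 : ∀ m, 2 * (m + 2 + 3) < 2 ^ (m + 2 + 1) + 2 ^ (m + 2) := by
      intro m
      induction m with
      | zero => norm_num
      | succ m ih =>
        have h7 : 2 ^ (m + 1 + 2 + 1) = 2 * 2 ^ (m + 2 + 1) := by ring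
        have h8 : 2 ^ (m + 1 + 2) = 2 * 2 ^ (m + 2) := by ring
        omega
    obtain ⟨l, rfl⟩ : ∃ l, m = l + 2 := ⟨m - 2, by omega⟩
    have h7 := h6 l
    have h8 : 2 ^ (l + 2 + 1) ≤ q ^ (l + 2 + 1) := Nat.pow_le_pow_left hq1 _
    have h9 : 2 ^ (l + 2) ≤ q ^ (l + 2) := Nat.pow_le_pow_left hq1 _
    omega
  have hm' : m = 0 ∨ m = 1 := by omega
  rcases hm' with rfl | rfl
  · -- `d = 3`
    simp only [zero_add, pow_one, pow_zero] at h4 h3 hsum
    have hq5 : q ≤ 5 := by omega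
    have hps : 1 + q + q ^ 2 = p := by
      rw [← hsum]
      simp [Finset.sum_range_succ]
    refine ⟨rfl, ?_⟩
    have hf3 : f ≤ 2 := by omega
    have hf' : f = 1 ∨ f = 2 := by omega
    rcases hf' with rfl | rfl
    · rw [pow_one] at hqdef
      refine ⟨rfl, ?_⟩
      have hr5 : r ≤ 5 := by omega
      have : 2 ≤ r := hr.two_le
      have h6 : r = 2 ∨ r = 3 ∨ r = 4 ∨ r = 5 := by omega
      rcases h6 with rfl | rfl | rfl | rfl
      · exact Or.inl rfl
      · exact Or.inr rfl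
      · norm_num at hr
      · exfalso
        rw [hqdef] at h3
        norm_num at h3
    · exfalso
      have hr2 : r = 2 := by
        have : 2 ≤ r := hr.two_le
        by_contra hcon
        have h6 : 3 ^ 2 ≤ r ^ 2 := Nat.pow_le_pow_left (by omega) 2
        omega
      subst hr2
      rw [hqdef] at hps
      norm_num at hps
      rw [← hps] at hp
      norm_num at hp
  · exfalso
    have hq2 : q = 2 := by
      by_contra hcon
      have h6 : 3 ^ (1 + 1) ≤ q ^ (1 + 1) := Nat.pow_le_pow_left (by omega) _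
      omega
    rw [hq2] at hsum
    simp [Finset.sum_range_succ] at hsum
    rw [← hsum] at hp
    norm_num at hp

end Cfsg.Agent.H605.Aff.NumOne
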